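import Mathlib
import Groth.Agent.Semiloc14.CompletedTensor
import Groth.Agent.AdicC27.Approx

/-!
Approximation in the completed tensor product `A ⊗̂ k'` and continuity arguments (row S3851).
-/

set_option autoImplicit false
set_option linter.style.haveILetI false

noncomputable section

universe u

open TensorProduct IsLocalRing

namespace Groth.Agent.BC14

variable (k A k' : Type u) [Field k] [CommRing A] [IsLocalRing A] [Algebra k A] [Field k'] [Algebra k k']

/-- The ideal of `A ⊗ k'` generated by the maximal ideal. -/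
abbrev ideal : Ideal (A ⊗[k] k') := (maximalIdeal A).map (algebraMap A (A ⊗[k] k'))

/-- The completed tensor product. -/
abbrev Cpl : Type u := AdicCompletion (ideal k A k') (A ⊗[k] k')

/-- The ideal of the completion generated by the maximal ideal. -/
abbrev cidl : Ideal (Cpl k A k') := (maximalIdeal A).map (algebraMap A (Cpl k A k'))

lemma cidl_eq : cidl k A k' = (ideal k A k').map (algebraMap (A ⊗[k] k') (Cpl k A k')) := by
  rw [Ideal.map_map, ← IsScalarTower.algebraMap_eq]

variable [IsNoetherianRing A]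

lemma fg_ideal : (ideal k A k').FG := Ideal.FG.map (IsNoetherian.noetherian (maximalIdeal A)) _

lemma mem_pow_iff (n : ℕ) (x : Cpl k A k') :
    x ∈ cidl k A k' ^ n ↔ AdicCompletion.eval (ideal k A k') (A ⊗[k] k') n x = 0 := by
  have h := AdicCompletion.pow_smul_top_eq_ker_eval (M := A ⊗[k] k') (n := n) (fg_ideal k A k')
  rw [Ideal.smul_top_eq_map, Ideal.map_pow, ← cidl_eq] at h
  rw [← LinearMap.mem_ker, ← h, Submodule.restrictScalars_mem]

lemma exists_approx (x : Cpl k A k') (n : ℕ) :
    ∃ t : A ⊗[k] k', x - algebraMap (A ⊗[k] k') (Cpl k A k') t ∈ cidl k A k' ^ n := by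
  obtain ⟨t, ht⟩ := Submodule.mkQ_surjective _ (AdicCompletion.eval (ideal k A k') (A ⊗[k] k') n x)
  refine ⟨t, (mem_pow_iff k A k' n _).2 ?_⟩
  rw [map_sub, show algebraMap (A ⊗[k] k') (Cpl k A k') t = AdicCompletion.of _ _ t from rfl,
    AdicCompletion.eval_of, ht, sub_self]

lemma mem_of_algebraMap_mem (t : A ⊗[k] k') (n : ℕ)
    (h : algebraMap (A ⊗[k] k') (Cpl k A k') t ∈ cidl k A k' ^ n) : t ∈ ideal k A k' ^ n := by
  rw [mem_pow_iff, show algebraMap (A ⊗[k] k') (Cpl k A k') t = AdicCompletion.of _ _ t from rfl,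
    AdicCompletion.eval_of, Submodule.mkQ_apply, Submodule.Quotient.mk_eq_zero] at h
  simpa using h

lemma algebraMap_pow_mem (t : A ⊗[k] k') (n : ℕ) (h : t ∈ ideal k A k' ^ n) :
    algebraMap (A ⊗[k] k') (Cpl k A k') t ∈ cidl k A k' ^ n := by
  rw [cidl_eq, ← Ideal.map_pow]
  exact Ideal.mem_map_of_mem _ h

instance isAdicComplete_cidl : IsAdicComplete (cidl k A k') (Cpl k A k') := by
  rw [cidl_eq]
  exact AdicCompletion.isAdicComplete_self _ (fg_ideal k A k')

/-- Continuous ring maps out of the completion are determined on `A ⊗ k'`. -/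
theorem hom_ext {X : Type u} [CommRing X] (K : Ideal X) [IsHausdorff K X] (f g : Cpl k A k' →+* X)
    (hf : cidl k A k' ≤ K.comap f) (hg : cidl k A k' ≤ K.comap g)
    (h : f.comp (algebraMap (A ⊗[k] k') (Cpl k A k')) = g.comp (algebraMap (A ⊗[k] k') (Cpl k A k'))) :
    f = g := by
  refine RingHom.ext fun x => ?_
  rw [← sub_eq_zero]
  refine IsHausdorff.haus (I := K) inferInstance _ fun n => ?_
  rw [SModEq.zero, smul_eq_mul, Ideal.mul_top]
  obtain ⟨t, ht⟩ := exists_approx k A k' x n
  have key : ∀ φ : Cpl k A k' →+* X, cidl k A k' ≤ K.comap φ →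
      φ x - φ (algebraMap (A ⊗[k] k') (Cpl k A k') t) ∈ K ^ n := fun φ hφ => by
    rw [← map_sub]
    exact ((Ideal.pow_right_mono hφ n).trans (Ideal.le_comap_pow φ n)) ht
  have := sub_mem (key f hf) (key g hg)
  rwa [show f (algebraMap (A ⊗[k] k') (Cpl k A k') t) = g (algebraMap (A ⊗[k] k') (Cpl k A k') t) from
    RingHom.congr_fun h t, sub_sub_sub_cancel_right] at this

/-- Ring maps from `A ⊗ k'` into complete rings extend to the completion. -/
theorem exists_hom {X : Type u} [CommRing X] (K : Ideal X) [IsAdicComplete K X] (f : A ⊗[k] k' →+* X)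
    (hf : ideal k A k' ≤ K.comap f) :
    ∃ g : Cpl k A k' →+* X, g.comp (algebraMap (A ⊗[k] k') (Cpl k A k')) = f ∧ cidl k A k' ≤ K.comap g := by
  have hfn : ∀ n, ideal k A k' ^ n ≤ (K ^ n).comap f := fun n =>
    (Ideal.pow_right_mono hf n).trans (Ideal.le_comap_pow f n)
  let F : (n : ℕ) → Cpl k A k' →+* X ⧸ K ^ n := fun n =>
    (Ideal.quotientMap (K ^ n) f (hfn n)).comp (AdicCompletion.evalₐ (ideal k A k') n).toRingHom
  have key : ∀ (n : ℕ) (x : Cpl k A k') (t : A ⊗[k] k'),
      x - algebraMap (A ⊗[k] k') (Cpl k A k') t ∈ cidl k A k' ^ n → F n x = Ideal.Quotient.mk _ (f t) := by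
    intro n x t ht
    have h1 : AdicCompletion.evalₐ (ideal k A k') n x = Ideal.Quotient.mk _ t := by
      rw [← AdicCompletion.evalₐ_of (ideal k A k') n t, ← sub_eq_zero, ← map_sub,
        ← AdicCompletion.factor_eval_eq_evalₐ (ideal k A k') _ (le_of_eq (Ideal.mul_top _))]
      have := (mem_pow_iff k A k' n _).1 ht
      rw [show AdicCompletion.eval (ideal k A k') (A ⊗[k] k') n
        (x - AdicCompletion.of (ideal k A k') (A ⊗[k] k') t) = 0 from this, map_zero]
    show Ideal.quotientMap (K ^ n) f (hfn n) (AdicCompletion.evalₐ (ideal k A k') n x) = _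
    rw [h1, Ideal.quotientMap_mk]
  have hF : ∀ {m n : ℕ} (h : m ≤ n), (Ideal.Quotient.factorPow K h).comp (F n) = F m := by
    intro m n h
    refine RingHom.ext fun x => ?_
    obtain ⟨t, ht⟩ := exists_approx k A k' x n
    rw [RingHom.comp_apply, key n x t ht, key m x t (Ideal.pow_le_pow_right h ht)]
    exact Ideal.Quotient.factor_mk _ _
  let g := IsAdicComplete.liftRingHom K F hF
  refine ⟨g, RingHom.ext fun t => ?_, fun x hx => ?_⟩
  · rw [← sub_eq_zero]
    refine IsHausdorff.haus (I := K) inferInstance _ fun n => ?_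
    rw [SModEq.zero, smul_eq_mul, Ideal.mul_top, ← Ideal.Quotient.eq, RingHom.comp_apply,
      IsAdicComplete.mk_liftRingHom]
    exact key n _ t (by simp)
  · have h1 : Ideal.Quotient.mk (K ^ 1) (g x) = 0 := by
      rw [IsAdicComplete.mk_liftRingHom, key 1 x 0 (by simpa using hx), map_zero, map_zero]
    rw [Ideal.Quotient.eq_zero_iff_mem, pow_one] at h1
    exact h1

end Groth.Agent.BC14
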