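import Mathlib
import Groth.Agent.BC14.Base

/-!
Derivations of `A` into finite modules over the completed tensor product extend (row S3851).
-/

set_option autoImplicit false
set_option linter.style.haveILetI false

noncomputable section

universe u

open TensorProduct IsLocalRing

namespace Groth.Agent.BC14

variable (k A k' : Type u) [Field k] [CommRing A] [IsLocalRing A] [IsNoetherianRing A] [Algebra k A]
  [Module.Finite k (ResidueField A)] [Field k'] [Algebra k k']

/-- The embedding of `k'`. -/
def inclR : k' →+* Cpl k A k' :=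
  (algebraMap (A ⊗[k] k') (Cpl k A k')).comp Algebra.TensorProduct.includeRight.toRingHom

lemma inclR_algebraMap (c : k) : inclR k A k' (algebraMap k k' c) = algebraMap k (Cpl k A k') c := by
  show algebraMap (A ⊗[k] k') (Cpl k A k') (Algebra.TensorProduct.includeRight (algebraMap k k' c)) = _
  rw [AlgHom.commutes, ← IsScalarTower.algebraMap_apply]

theorem exists_deriv (N : Type u) [AddCommGroup N] [Module (Cpl k A k') N] [Module.Finite (Cpl k A k') N]
    (d : A →+ N) (hmul : ∀ a b, d (a * b) = algebraMap A (Cpl k A k') a • d b + algebraMap A (Cpl k A k') b • d a)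
    (hd : ∀ c : k, d (algebraMap k A c) = 0) :
    ∃ D : Cpl k A k' →+ N, (∀ x y, D (x * y) = x • D y + y • D x) ∧ (∀ c, D (inclR k A k' c) = 0) ∧
      ∀ a, D (algebraMap A (Cpl k A k') a) = d a := by
  classical
  haveI hnoe : IsNoetherianRing (Cpl k A k') := (Semiloc14.main (k := k) (A := A) (k' := k')).1
  haveI : IsAdicComplete (cidl k A k') N := AdicC27.isAdicComplete_of_finite N
  let J := cidl k A k'
  let α := algebraMap (A ⊗[k] k') (Cpl k A k')
  have hαA : ∀ a : A, α (a ⊗ₜ 1) = algebraMap A (Cpl k A k') a := fun a => rfl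
  -- on the tensor product
  let h : A →+ k' →+ N := AddMonoidHom.mk' (fun a => AddMonoidHom.mk' (fun x => inclR k A k' x • d a)
      fun x y => by simp only [map_add, add_smul]) fun a b => by ext x; simp
  let δ : A ⊗[k] k' →+ N := TensorProduct.liftAddHom h fun c a x => by
    show inclR k A k' x • d (c • a) = inclR k A k' (c • x) • d a
    rw [Algebra.smul_def, hmul, hd, smul_zero, add_zero, Algebra.smul_def c x, map_mul, inclR_algebraMap,
      ← IsScalarTower.algebraMap_apply k A (Cpl k A k'), mul_comm, mul_smul]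
  have hδt : ∀ a x, δ (a ⊗ₜ x) = inclR k A k' x • d a := fun a x => TensorProduct.liftAddHom_tmul h _ a x
  have hα : ∀ a x, α (a ⊗ₜ x) = algebraMap A (Cpl k A k') a * inclR k A k' x := fun a x => by
    rw [← hαA]
    show α _ = α _ * α (1 ⊗ₜ x)
    rw [← map_mul, Algebra.TensorProduct.tmul_mul_tmul, mul_one, one_mul]
  have hleib : ∀ u v, δ (u * v) = α u • δ v + α v • δ u := by
    intro u v
    induction u using TensorProduct.induction_on with
    | zero => simp
    | add p q hp hq => simp only [add_mul, map_add, hp, hq, add_smul, smul_add]; abel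
    | tmul a x =>
      induction v using TensorProduct.induction_on with
      | zero => simp
      | add p q hp hq => simp only [mul_add, map_add, hp, hq, add_smul, smul_add]; abel
      | tmul b y =>
        rw [Algebra.TensorProduct.tmul_mul_tmul, hδt, hδt, hδt, hα, hα, hmul, map_mul, smul_add,
          smul_smul, smul_smul, smul_smul, smul_smul]
        congr 1 <;> (congr 1; ring)
  have hpow : ∀ (n : ℕ) (t : A ⊗[k] k'), t ∈ ideal k A k' ^ (n + 1) → δ t ∈ (J ^ n • ⊤ : Submodule (Cpl k A k') N) := by
    intro n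
    induction n with
    | zero => intro t _; simp
    | succ n ih =>
      intro t ht
      rw [pow_succ] at ht
      induction ht using Submodule.mul_induction_on' with
      | mem_mul_mem u hu v hv =>
        rw [hleib]
        refine add_mem (Submodule.smul_mem_smul (algebraMap_pow_mem k A k' u _ hu) trivial) ?_
        rw [pow_succ', Submodule.mul_smul]
        refine Submodule.smul_mem_smul ?_ (ih u hu)
        simpa using algebraMap_pow_mem k A k' v 1 (by simpa using hv)
      | add p _ q _ hp hq => rw [map_add]; exact add_mem hp hq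
  -- the limit
  choose t ht using exists_approx k A k'
  have happ : ∀ (x : Cpl k A k') (n : ℕ) (s : A ⊗[k] k'), x - α s ∈ J ^ (n + 1) → ∀ m, n ≤ m →
      δ (t x (m + 1)) - δ s ∈ (J ^ n • ⊤ : Submodule (Cpl k A k') N) := by
    intro x n s hs m hnm
    rw [← map_sub]
    refine hpow n _ (mem_of_algebraMap_mem k A k' _ _ ?_)
    have h2 := sub_mem hs (Ideal.pow_le_pow_right (by omega : n + 1 ≤ m + 1) (ht x (m + 1)))
    rw [sub_sub_sub_cancel_left] at h2
    rw [map_sub]; exact h2
  have hL : ∀ x, ∃ L : N, ∀ (n : ℕ) (s : A ⊗[k] k'), x - α s ∈ J ^ (n + 1) →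
      L - δ s ∈ (J ^ n • ⊤ : Submodule (Cpl k A k') N) := by
    intro x
    obtain ⟨L, hL⟩ := IsPrecomplete.prec (inferInstance : IsPrecomplete J N) (f := fun n => δ (t x (n + 1)))
      (fun {m n} hmn => by
        rw [SModEq.sub_mem, ← Submodule.neg_mem_iff, neg_sub]
        exact happ x m _ (ht x (m + 1)) n hmn)
    refine ⟨L, fun n s hs => ?_⟩
    have h1 := SModEq.sub_mem.1 (hL n)
    have h2 := sub_mem (happ x n s hs n le_rfl) h1
    rwa [sub_sub_sub_cancel_left] at h2
  choose L hL using hL
  have huniq : ∀ (x : Cpl k A k') (z : N),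
      (∀ n, ∃ s, x - α s ∈ J ^ (n + 1) ∧ z - δ s ∈ (J ^ n • ⊤ : Submodule (Cpl k A k') N)) → L x = z := by
    intro x z hz
    rw [← sub_eq_zero]
    refine IsHausdorff.haus (I := J) inferInstance _ fun n => ?_
    obtain ⟨s, hs, hzs⟩ := hz n
    rw [SModEq.zero]
    have := sub_mem (hL x n s hs) hzs
    rwa [sub_sub_sub_cancel_right] at this
  have hconst : ∀ s, L (α s) = δ s := fun s =>
    huniq _ _ fun n => ⟨s, by simp, by simp⟩
  refine ⟨AddMonoidHom.mk' L fun x y => huniq _ _ fun n => ⟨t x (n + 1) + t y (n + 1), ?_, ?_⟩, fun x y => ?_,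
    fun c => ?_, fun a => ?_⟩
  · rw [map_add, add_sub_add_comm]
    exact add_mem (ht x (n + 1)) (ht y (n + 1))
  · rw [map_add, add_sub_add_comm]
    exact add_mem (hL x n _ (ht x (n + 1))) (hL y n _ (ht y (n + 1)))
  · refine huniq _ _ fun n => ⟨t x (n + 1) * t y (n + 1), ?_, ?_⟩
    · rw [map_mul, show x * y - α (t x (n + 1)) * α (t y (n + 1)) =
        (x - α (t x (n + 1))) * y + α (t x (n + 1)) * (y - α (t y (n + 1))) by ring]
      exact add_mem (Ideal.mul_mem_right _ _ (ht x (n + 1))) (Ideal.mul_mem_left _ _ (ht y (n + 1)))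
    · rw [hleib]
      show x • L y + y • L x - (α (t x (n + 1)) • δ (t y (n + 1)) + α (t y (n + 1)) • δ (t x (n + 1))) ∈ _
      have h : ∀ (p q : Cpl k A k') (u v : N), p - q ∈ J ^ n → u - v ∈ (J ^ n • ⊤ : Submodule (Cpl k A k') N) →
          p • u - q • v ∈ (J ^ n • ⊤ : Submodule (Cpl k A k') N) := fun p q u v h1 h2 => by
        rw [show p • u - q • v = (p - q) • u + q • (u - v) by rw [sub_smul, smul_sub]; abel]
        exact add_mem (Submodule.smul_mem_smul h1 trivial) (Submodule.smul_mem _ _ h2)
      rw [add_sub_add_comm]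
      exact add_mem (h _ _ _ _ (Ideal.pow_le_pow_right n.le_succ (ht x (n + 1))) (hL y n _ (ht y (n + 1))))
        (h _ _ _ _ (Ideal.pow_le_pow_right n.le_succ (ht y (n + 1))) (hL x n _ (ht x (n + 1))))
  · show L (α (1 ⊗ₜ c)) = 0
    rw [hconst, hδt]
    have h1 : d 1 = 0 := by
      have := hd 1
      rwa [map_one] at this
    rw [h1, smul_zero]
  · show L (algebraMap A (Cpl k A k') a) = d a
    rw [← hαA, hconst, hδt, map_one, one_smul]

end Groth.Agent.BC14
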