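import Mathlib
import Groth.Agent.BC14.Deriv
import Groth.Agent.OmegaHat14.FreeReg
import Groth.Agent.OmegaHat14.Unram
import Groth.Agent.CAlg1.CohenHom
import Groth.Agent.EGA4H10.GenFormal
import Groth.Agent.EGA4H10.Serre

/-!
From a regular point over a perfect extension to freeness of the completed differentials (row S3851).
-/

set_option autoImplicit false
set_option linter.style.haveILetI false

noncomputable section

universe u

open TensorProduct IsLocalRing

namespace Groth.Agent.BC14

theorem isGeometricallyRegular_of_perfect (k L : Type u) [Field k] [PerfectField k] [CommRing L] [Algebra k L]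
    [IsRegularLocalRing L] : CAlg.IsGeometricallyRegular k L := by
  intro k' _ _ hk'
  haveI : Algebra.IsAlgebraic k k' := Algebra.IsAlgebraic.of_finite k k'
  haveI : Algebra.IsSeparable k k' := inferInstance
  haveI : Algebra.FormallyEtale k k' := Algebra.FormallyEtale.of_isSeparable k k'
  haveI : Algebra.FinitePresentation k k' :=
    Algebra.FinitePresentation.of_finiteType.mp inferInstance
  haveI : Algebra.Etale k k' := ⟨inferInstance, inferInstance⟩
  haveI : Algebra.Etale L (L ⊗[k] k') := inferInstance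
  haveI := CAlg1.isRegularRing_of_isRegularLocalRing L
  haveI := EGA4H10.isRegularRing_of_etale (X := L) (Y := L ⊗[k] k')
  exact IsRegularRing.of_ringEquiv (Algebra.TensorProduct.comm k L k').toRingEquiv

theorem dim_quotient_le {A B : Type u} [CommRing A] [CommRing B] [IsLocalRing A] [IsLocalRing B]
    [IsNoetherianRing A] [IsNoetherianRing B] [Algebra A B]
    (hclosed : ∀ Q : Ideal B, Q.IsPrime → (maximalIdeal A).map (algebraMap A B) ≤ Q → Q = maximalIdeal B)
    (hmle : (maximalIdeal A).map (algebraMap A B) ≤ maximalIdeal B)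
    (q₀ : Ideal A) [q₀.IsPrime] (q' : Ideal B) [q'.IsPrime] (hq : q₀ ≤ q'.comap (algebraMap A B)) :
    ringKrullDim (B ⧸ q') ≤ ringKrullDim (A ⧸ q₀) := by
  classical
  haveI : IsLocalRing (A ⧸ q₀) := .of_surjective' _ Ideal.Quotient.mk_surjective
  haveI : IsLocalRing (B ⧸ q') := .of_surjective' _ Ideal.Quotient.mk_surjective
  haveI : IsLocalHom (Ideal.Quotient.mk q') := .of_surjective _ Ideal.Quotient.mk_surjective
  haveI : IsLocalHom (Ideal.Quotient.mk q₀) := .of_surjective _ Ideal.Quotient.mk_surjective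
  let f : A ⧸ q₀ →+* B ⧸ q' := Ideal.quotientMap q' (algebraMap A B) hq
  obtain ⟨s, hs, hcard⟩ := (maximalIdeal (A ⧸ q₀)).exists_finset_card_eq_height_of_isNoetherianRing
  rw [← IsLocalRing.maximalIdeal_height_eq_ringKrullDim, ← IsLocalRing.maximalIdeal_height_eq_ringKrullDim,
    ← hcard]
  refine WithBot.coe_le_coe.2 (le_trans (Ideal.height_le_card_of_mem_minimalPrimes_span_finset (s := s.image f) ?_) ?_)
  · refine ⟨⟨inferInstance, Ideal.span_le.2 fun x hx => ?_⟩, fun Q hQ hle => ?_⟩
    · obtain ⟨y, hy, rfl⟩ := Finset.mem_image.1 (Finset.mem_coe.1 hx)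
      obtain ⟨a, rfl⟩ := Ideal.Quotient.mk_surjective y
      intro hu
      have hm : a ∈ maximalIdeal A := fun ha => (hs.1.2 (Ideal.subset_span hy)) (ha.map (Ideal.Quotient.mk q₀))
      have h2 : Ideal.Quotient.mk q' (algebraMap A B a) ∈ maximalIdeal (B ⧸ q') :=
        map_nonunit (Ideal.Quotient.mk q') _ (hmle (Ideal.mem_map_of_mem _ hm))
      exact h2 hu
    · obtain ⟨hQ1, hQ2⟩ := hQ
      have hsQ : Ideal.span (s : Set (A ⧸ q₀)) ≤ Q.comap f := Ideal.span_le.2 fun y hy =>
        hQ2 (Ideal.subset_span (Finset.mem_coe.2 (Finset.mem_image_of_mem f hy)))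
      have hmQ : maximalIdeal (A ⧸ q₀) ≤ Q.comap f :=
        hs.2 ⟨Ideal.IsPrime.comap f, hsQ⟩ (IsLocalRing.le_maximalIdeal (Ideal.IsPrime.comap f).ne_top)
      have h3 : (maximalIdeal A).map (algebraMap A B) ≤ Q.comap (Ideal.Quotient.mk q') := by
        refine Ideal.map_le_iff_le_comap.2 fun a ha => ?_
        exact hmQ (map_nonunit (Ideal.Quotient.mk q₀) a ha)
      intro z hz
      obtain ⟨b, rfl⟩ := Ideal.Quotient.mk_surjective z
      have h4 : b ∈ Q.comap (Ideal.Quotient.mk q') := by
        rw [hclosed _ (Ideal.IsPrime.comap _) h3]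
        intro hu
        exact hz (hu.map (Ideal.Quotient.mk q'))
      exact h4
  · exact_mod_cast Finset.card_image_le

variable (k A k' : Type u) [Field k] [CommRing A] [IsLocalRing A] [IsNoetherianRing A] [Algebra k A]
  [IsAdicComplete (maximalIdeal A) A] [Module.Finite k (ResidueField A)] [Field k'] [Algebra k k']

omit [IsAdicComplete (maximalIdeal A) A] in
theorem isArtinianRing_quotient : IsArtinianRing (Cpl k A k' ⧸ cidl k A k') := by
  obtain ⟨Φ, hΦ, hΦk, -⟩ := Semiloc14.exists_level k A k' (maximalIdeal A) (IsNoetherian.noetherian _) 1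
  haveI : Module.Finite k (A ⧸ maximalIdeal A ^ 1) := by
    rw [pow_one]; exact ‹Module.Finite k (ResidueField A)›
  haveI : IsArtinianRing (k' ⊗[k] (A ⧸ maximalIdeal A ^ 1)) := IsArtinianRing.of_finite k' _
  let γ : Cpl k A k' →+* k' ⊗[k] (A ⧸ maximalIdeal A ^ 1) :=
    (Algebra.TensorProduct.comm k (A ⧸ maximalIdeal A ^ 1) k').toAlgHom.toRingHom.comp Φ.toRingHom
  have hγ : Function.Surjective γ :=
    (Algebra.TensorProduct.comm k (A ⧸ maximalIdeal A ^ 1) k').surjective.comp hΦ
  have hγk : RingHom.ker γ = cidl k A k' := by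
    ext x
    rw [RingHom.mem_ker]
    refine (map_eq_zero_iff _ (Algebra.TensorProduct.comm k (A ⧸ maximalIdeal A ^ 1) k').injective).trans ?_
    exact SetLike.ext_iff.1 (hΦk.trans (pow_one _)) x
  rw [← hγk]
  exact (RingHom.quotientKerEquivOfSurjective hγ).symm.surjective.isArtinianRing

omit [IsAdicComplete (maximalIdeal A) A] in
theorem isMaximal_of_le (Q : Ideal (Cpl k A k')) [Q.IsPrime] (h : cidl k A k' ≤ Q) : Q.IsMaximal := by
  haveI := isArtinianRing_quotient k A k'
  haveI : (Q.map (Ideal.Quotient.mk (cidl k A k'))).IsPrime :=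
    Ideal.map_isPrime_of_surjective Ideal.Quotient.mk_surjective (by rwa [Ideal.mk_ker])
  haveI := IsArtinianRing.isMaximal_of_isPrime (Q.map (Ideal.Quotient.mk (cidl k A k')))
  have := Ideal.comap_isMaximal_of_surjective (Ideal.Quotient.mk (cidl k A k')) Ideal.Quotient.mk_surjective
    (K := Q.map (Ideal.Quotient.mk (cidl k A k')))
  rwa [Ideal.comap_map_quotientMk, sup_eq_right.2 h] at this

set_option maxHeartbeats 1000000 in
theorem descend [PerfectField k'] (p : Ideal A) [p.IsPrime] (n : ℕ)
    (hn₁ : ∀ q ∈ minimalPrimes A, q ≤ p → ringKrullDim (A ⧸ q) ≤ n)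
    (hn₂ : ∃ q ∈ minimalPrimes A, q ≤ p ∧ ringKrullDim (A ⧸ q) = n)
    (p' : Ideal (Cpl k A k')) [p'.IsPrime] (hp' : p'.comap (algebraMap A (Cpl k A k')) = p)
    [IsRegularLocalRing (Localization.AtPrime p')] :
    Module.Free (Localization.AtPrime p)
        (LocalizedModule p.primeCompl (AdicCompletion (maximalIdeal A) (KaehlerDifferential k A))) ∧
      Module.finrank (Localization.AtPrime p)
        (LocalizedModule p.primeCompl (AdicCompletion (maximalIdeal A) (KaehlerDifferential k A))) = n := by
  classical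
  let C := Cpl k A k'
  obtain ⟨hC, -, -, hloc⟩ := Semiloc14.main (k := k) (A := A) (k' := k')
  haveI := hC
  obtain ⟨M₀, hM₀, hpM⟩ := Ideal.exists_le_maximal p' ‹p'.IsPrime›.ne_top
  let M : MaximalSpectrum C := ⟨M₀, hM₀⟩
  obtain ⟨hBc, hBff, -, hBres⟩ := hloc M
  let B := Localization.AtPrime M.asIdeal
  haveI : IsNoetherianRing B := IsLocalization.isNoetherianRing M.asIdeal.primeCompl _ inferInstance
  haveI := isArtinianRing_quotient k A k'
  obtain ⟨e, he, heM, heN⟩ := (Semiloc14.finite_maximalSpectrum_and_idempotent (cidl k A k')).2 M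
  have hsurj : Function.Surjective (algebraMap C B) := CAlg5.localization_surjective he heM heN
  haveI : Module.Finite C B := Module.Finite.of_surjective (Algebra.linearMap C B) hsurj
  letI algB : Algebra k' B := ((algebraMap C B).comp (inclR k A k')).toAlgebra
  haveI : IsScalarTower k k' B := IsScalarTower.of_algebraMap_eq fun c => by
    show _ = algebraMap C B (inclR k A k' (algebraMap k k' c))
    rw [inclR_algebraMap, ← IsScalarTower.algebraMap_apply]
  haveI : Module.Finite k' (ResidueField B) := by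
    let f : C ⧸ M.asIdeal →+* ResidueField B :=
      Ideal.Quotient.lift M.asIdeal ((residue B).comp (algebraMap C B)) fun x hx => by
        rw [RingHom.comp_apply, residue_eq_zero_iff, ← Localization.AtPrime.map_eq_maximalIdeal]
        exact Ideal.mem_map_of_mem _ hx
    have hf : Function.Surjective f := fun z => by
      obtain ⟨b, rfl⟩ := residue_surjective z
      obtain ⟨c, rfl⟩ := hsurj b
      exact ⟨Ideal.Quotient.mk _ c, rfl⟩
    have heq : algebraMap k' (ResidueField B) =
        f.comp (((Ideal.Quotient.mk M.asIdeal).comp (algebraMap (A ⊗[k] k') C)).comp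
          Algebra.TensorProduct.includeRight.toRingHom) := RingHom.ext fun c => rfl
    refine RingHom.finite_algebraMap.1 ?_
    rw [heq]
    exact RingHom.Finite.comp (RingHom.Finite.of_surjective f hf) hBres
  -- the prime of `B`
  let P : Ideal B := p'.map (algebraMap C B)
  have hdisj : Disjoint (M.asIdeal.primeCompl : Set C) p' :=
    Set.disjoint_left.2 fun x hx hxp => hx (hpM hxp)
  haveI hP : P.IsPrime := IsLocalization.isPrime_of_isPrime_disjoint M.asIdeal.primeCompl B p' ‹_› hdisj
  have hPc : P.comap (algebraMap C B) = p' :=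
    IsLocalization.comap_map_of_isPrime_disjoint M.asIdeal.primeCompl B ‹p'.IsPrime› hdisj
  haveI : IsLocalization.AtPrime (Localization.AtPrime P) (P.comap (algebraMap C B)) :=
    IsLocalization.isLocalization_isLocalization_atPrime_isLocalization M.asIdeal.primeCompl (Localization.AtPrime P) P
  haveI : IsLocalization.AtPrime (Localization.AtPrime P) p' := by
    have : IsLocalization.AtPrime (Localization.AtPrime P) (P.comap (algebraMap C B)) := inferInstance
    simp only [hPc] at this
    exact this
  haveI hreg : IsRegularLocalRing (Localization.AtPrime P) :=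
    IsRegularLocalRing.of_ringEquiv
      (IsLocalization.algEquiv p'.primeCompl (Localization.AtPrime p') (Localization.AtPrime P)).toRingEquiv
  have hPA : P.comap (algebraMap A B) = p := by
    rw [IsScalarTower.algebraMap_eq A C B, ← Ideal.comap_comap, hPc, hp']
  -- fibre bound over `B`
  obtain ⟨q', hq'min, hq'P⟩ := Ideal.exists_minimalPrimes_le (bot_le : (⊥ : Ideal B) ≤ P)
  haveI : q'.IsPrime := hq'min.1.1
  haveI := CAlg1.isDomain_regular (Localization.AtPrime P)
  have hker' : ∀ x ∈ q', algebraMap B (Localization.AtPrime P) x = 0 := by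
    let r := RingHom.ker (algebraMap B (Localization.AtPrime P))
    have hr : r ≤ q' := fun x hx => by
      obtain ⟨s, hs⟩ := (IsLocalization.map_eq_zero_iff P.primeCompl (Localization.AtPrime P) x).1 hx
      exact (‹q'.IsPrime›.mem_or_mem (hs ▸ zero_mem q' : (s : B) * x ∈ q')).resolve_left fun h => s.2 (hq'P h)
    exact fun x hx => (hq'min.2 ⟨RingHom.ker_isPrime _, bot_le⟩ hr hx : x ∈ r)
  obtain ⟨e₀, he₀⟩ := ExpChar.exists k'
  haveI := PerfectField.toPerfectRing (K := k') e₀
  obtain ⟨h, d, hh, hd, hle⟩ := OmegaHat14.fibre_le e₀ k' B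
    (RingHom.Finite.of_surjective _ (surjective_frobenius k' e₀)) P
    (isGeometricallyRegular_of_perfect k' (Localization.AtPrime P))
  have hqA : q'.comap (algebraMap A B) ≤ p := hPA ▸ Ideal.comap_mono hq'P
  obtain ⟨q₀, hq₀min, hq₀le⟩ := Ideal.exists_minimalPrimes_le (bot_le : (⊥ : Ideal A) ≤ q'.comap (algebraMap A B))
  haveI : q₀.IsPrime := hq₀min.1.1
  have hclosed : ∀ Q : Ideal B, Q.IsPrime → (maximalIdeal A).map (algebraMap A B) ≤ Q → Q = maximalIdeal B := by
    intro Q hQ hle'
    haveI := hQ
    have h1 : (Q.comap (algebraMap C B)).IsMaximal := isMaximal_of_le k A k' _ (Ideal.map_le_iff_le_comap.2 (by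
      rw [Ideal.comap_comap, ← IsScalarTower.algebraMap_eq]
      exact Ideal.map_le_iff_le_comap.1 hle'))
    have h2 : Q = (Q.comap (algebraMap C B)).map (algebraMap C B) := (Ideal.map_comap_of_surjective _ hsurj Q).symm
    rcases Ideal.map_eq_top_or_isMaximal_of_surjective (algebraMap C B) hsurj h1 with h3 | h3
    · exact absurd (h2.trans h3) hQ.ne_top
    · exact IsLocalRing.eq_maximalIdeal (h2 ▸ h3)
  have hhd : h + d ≤ n := by
    have h1 : (h : WithBot ℕ∞) + (d : WithBot ℕ∞) ≤ ringKrullDim (B ⧸ q') :=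
      le_trans (add_le_add (WithBot.coe_le_coe.2 hh) hd.ge) (OmegaHat14.height_add_dim_le P q' hq'P hker')
    have h2 : (h : WithBot ℕ∞) + (d : WithBot ℕ∞) ≤ (n : WithBot ℕ∞) :=
      h1.trans ((dim_quotient_le hclosed (Ideal.map_le_iff_le_comap.2 fun a ha => by
        haveI := hBff
        exact map_nonunit (algebraMap A B) a ha) q₀ q' hq₀le).trans (hn₁ q₀ hq₀min (hq₀le.trans hqA)))
    exact_mod_cast h2
  -- comparison with `A`
  let ΩA := AdicCompletion (maximalIdeal A) (KaehlerDifferential k A)
  obtain ⟨hspanA, hfinA⟩ := OmegaHat14.span_residueField_dhat k A p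
  let N := B ⊗[A] ΩA
  haveI : Module.Finite B N := inferInstance
  haveI : Module.Finite C N := Module.Finite.trans B N
  have hmulA : ∀ a b : A, ((1 : B) ⊗ₜ[A] OmegaHat14.dhat k A (a * b) : N) =
      algebraMap A C a • ((1 : B) ⊗ₜ[A] OmegaHat14.dhat k A b : N) +
        algebraMap A C b • ((1 : B) ⊗ₜ[A] OmegaHat14.dhat k A a : N) := by
    intro a b
    rw [Derivation.leibniz, TensorProduct.tmul_add, TensorProduct.tmul_smul, TensorProduct.tmul_smul,
      algebraMap_smul, algebraMap_smul]
  obtain ⟨D, hDl, hDk, hDA⟩ := exists_deriv k A k' N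
    ((TensorProduct.mk A B ΩA 1).toAddMonoidHom.comp (OmegaHat14.dhat k A).toLinearMap.toAddMonoidHom)
    hmulA (fun c => by
      show (1 : B) ⊗ₜ[A] OmegaHat14.dhat k A (algebraMap k A c) = 0
      rw [Derivation.map_algebraMap, TensorProduct.tmul_zero])
  have hDker : ∀ x : C, algebraMap C B x = 0 → D x = 0 := by
    intro x hx
    obtain ⟨s, hs⟩ := (IsLocalization.map_eq_zero_iff M.asIdeal.primeCompl B x).1 hx
    have h1 := hDl s x
    rw [hs, map_zero, ← algebraMap_smul B x (D s), hx, zero_smul, add_zero, ← algebraMap_smul B (s : C) (D x)] at h1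
    exact (IsUnit.smul_eq_zero (IsLocalization.map_units B s)).1 h1.symm
  have hDeq : ∀ x y : C, algebraMap C B x = algebraMap C B y → D x = D y := fun x y hxy => by
    rw [← sub_eq_zero, ← map_sub]
    exact hDker _ (by rw [map_sub, hxy, sub_self])
  choose σ hσ using hsurj
  let DB : Derivation k' B N := Derivation.mk'
    { toFun := fun b => D (σ b)
      map_add' := fun a b => by
        rw [← map_add]
        exact hDeq _ _ (by rw [map_add, hσ, hσ, hσ])
      map_smul' := fun c b => by
        have h1 : D (σ (c • b)) = D (inclR k A k' c * σ b) :=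
          hDeq _ _ (by rw [map_mul, hσ, hσ, Algebra.smul_def]; rfl)
        rw [RingHom.id_apply, h1, hDl, hDk, smul_zero, add_zero, ← algebraMap_smul B (inclR k A k' c)]
        exact algebraMap_smul B c (D (σ b)) }
    fun a b => by
      show D (σ (a * b)) = a • D (σ b) + b • D (σ a)
      rw [hDeq (σ (a * b)) (σ a * σ b) (by rw [map_mul, hσ, hσ, hσ]), hDl, ← algebraMap_smul B (σ a),
        ← algebraMap_smul B (σ b) (D (σ a)), hσ, hσ]
  obtain ⟨Ψ, hΨ⟩ := OmegaHat14.exists_extend k' B N DB.liftKaehlerDifferential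
  have hΨs : Function.Surjective Ψ := by
    rw [← LinearMap.range_eq_top, eq_top_iff]
    rintro z -
    induction z using TensorProduct.induction_on with
    | zero => exact zero_mem _
    | add a b ha hb => exact add_mem ha hb
    | tmul b ω =>
      rw [show b ⊗ₜ[A] ω = b • ((1 : B) ⊗ₜ[A] ω) by rw [TensorProduct.smul_tmul', smul_eq_mul, mul_one]]
      refine Submodule.smul_mem _ _ ?_
      have hω : ω ∈ Submodule.span A (Set.range (OmegaHat14.dhat k A)) := by
        obtain ⟨N', g, hg⟩ := Submodule.fg_iff_exists_fin_generating_family.1 (IsNoetherian.noetherian (maximalIdeal A))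
        obtain ⟨w, -, hfin, hw⟩ := OmegaHat14.exists_powerSeries_finite k A g
          (fun i => hg ▸ Submodule.subset_span ⟨i, rfl⟩) (hg.ge.trans Ideal.le_radical)
        letI : Algebra (MvPowerSeries (Fin N') k) A := w.toRingHom.toAlgebra
        haveI : IsScalarTower k (MvPowerSeries (Fin N') k) A := IsScalarTower.of_algebraMap_eq fun x => (w.commutes x).symm
        haveI : Module.Finite (MvPowerSeries (Fin N') k) A := hfin
        obtain ⟨m, β, hβ⟩ := OmegaHat14.exists_span_dhat k A (m := N')
          (fun i => (hw i).symm ▸ hg ▸ Submodule.subset_span ⟨i, rfl⟩)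
        refine Submodule.span_mono ?_ (hβ ▸ Submodule.mem_top : ω ∈ _)
        rintro _ ⟨i | l, rfl⟩
        · exact ⟨_, rfl⟩
        · exact ⟨_, rfl⟩
      induction hω using Submodule.span_induction with
      | mem ω hω =>
        obtain ⟨a, rfl⟩ := hω
        refine ⟨AdicCompletion.of _ _ (KaehlerDifferential.D k' B (algebraMap A B a)), ?_⟩
        rw [hΨ, Derivation.liftKaehlerDifferential_comp_D]
        show D (σ (algebraMap A B a)) = _
        rw [hDeq (σ (algebraMap A B a)) (algebraMap A C a) (by rw [hσ, ← IsScalarTower.algebraMap_apply]), hDA]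
        rfl
      | zero => rw [TensorProduct.tmul_zero]; exact zero_mem _
      | add a b _ _ ha hb => rw [TensorProduct.tmul_add]; exact add_mem ha hb
      | smul a ω _ hω => rw [TensorProduct.tmul_smul]; exact Submodule.smul_of_tower_mem _ a hω
  haveI : P.LiesOver p := ⟨hPA.symm⟩
  letI := Localization.AtPrime.algebraOfLiesOver p P
  obtain ⟨-, hfinB⟩ := OmegaHat14.span_residueField_dhat k' B P
  let κ := P.ResidueField
  let g : κ ⊗[B] AdicCompletion (maximalIdeal B) (KaehlerDifferential k' B) →ₗ[κ] κ ⊗[B] N := Ψ.baseChange κ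
  have hg : Function.Surjective g := LinearMap.lTensor_surjective κ hΨs
  have e1 : (κ ⊗[B] N) ≃ₗ[κ] κ ⊗[p.ResidueField] (p.ResidueField ⊗[A] ΩA) :=
    (AlgebraTensorModule.cancelBaseChange A B κ κ ΩA).trans
      (AlgebraTensorModule.cancelBaseChange A p.ResidueField κ κ ΩA).symm
  have hfin : Module.finrank p.ResidueField (p.ResidueField ⊗[A] ΩA) ≤ n := by
    rw [← Module.finrank_baseChange (R := κ), ← e1.finrank_eq]
    exact ((LinearMap.finrank_le_finrank_of_surjective hg).trans hle).trans hhd
  -- regularity and freeness at `p`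
  haveI : IsRegularLocalRing (Localization.AtPrime p) := by
    haveI : Module.Flat A B := Module.FaithfullyFlat.toFlat
    haveI : IsLocalHom (algebraMap (Localization.AtPrime p) (Localization.AtPrime P)) :=
      Localization.isLocalHom_localRingHom p P _ _
    haveI : IsNoetherianRing (Localization.AtPrime p) := IsLocalization.isNoetherianRing p.primeCompl _ inferInstance
    haveI : Module.Flat (Localization.AtPrime p) (Localization.AtPrime P) := inferInstance
    exact EGA4H10.regular_of_flat (Localization.AtPrime p) (Localization.AtPrime P)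
  haveI := CAlg1.isDomain_regular (Localization.AtPrime p)
  obtain ⟨q, hqmin, hqp, hqdim⟩ := hn₂
  haveI : q.IsPrime := hqmin.1.1
  have hker : ∀ x ∈ q, algebraMap A (Localization.AtPrime p) x = 0 := by
    let r := RingHom.ker (algebraMap A (Localization.AtPrime p))
    have hr : r ≤ q := fun x hx => by
      obtain ⟨s, hs⟩ := (IsLocalization.map_eq_zero_iff p.primeCompl (Localization.AtPrime p) x).1 hx
      exact (‹q.IsPrime›.mem_or_mem (hs ▸ zero_mem q : (s : A) * x ∈ q)).resolve_left fun h => s.2 (hqp h)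
    exact fun x hx => (hqmin.2 ⟨RingHom.ker_isPrime _, bot_le⟩ hr hx : x ∈ r)
  obtain ⟨u, a, ha, hau⟩ := OmegaHat14.exists_smul_mem_of_finrank_le p hfin
  obtain ⟨d', hd', c, hc, Φ, w, hΦ⟩ := OmegaHat14.exists_map_to_pi k A q
  obtain rfl : n = d' := by
    have h1 : (n : WithBot ℕ∞) = (d' : WithBot ℕ∞) := hqdim.symm.trans hd'
    exact_mod_cast h1
  exact OmegaHat14.free_localized_of_span_of_map p q hqp hker Φ w c hc hΦ u a ha hau

end Groth.Agent.BC14
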