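import Mathlib
import Groth.Agent.BC14.Base
import Groth.Agent.OmegaHat14.Etale
import Groth.Agent.OmegaHat14.Free
import Groth.Agent.EGA4H10.GenFormal
import Groth.Agent.Frg27.RigClosed
import Groth.Agent.SGA3a.FiniteComplete
import Groth.Agent.CAlg1.CohenHom

/-!
Base change of a parametrisation étale at a prime: regularity of `A ⊗̂ k'` over it (row S3851).
-/

set_option autoImplicit false
set_option linter.style.haveILetI false

noncomputable section

universe u

open TensorProduct IsLocalRing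

namespace Groth.Agent.BC14

theorem ps_hom_ext {K X : Type u} [Field K] [CommRing X] (I : Ideal X) [IsHausdorff I X] {n : ℕ}
    (f g : MvPowerSeries (Fin n) K →+* X) (hmem : ∀ i, f (MvPowerSeries.X i) ∈ I)
    (hX : ∀ i, f (MvPowerSeries.X i) = g (MvPowerSeries.X i))
    (hC : ∀ c, f (MvPowerSeries.C c) = g (MvPowerSeries.C c)) : f = g := by
  refine RingHom.ext fun r => ?_
  rw [← sub_eq_zero]
  refine IsHausdorff.haus (I := I) inferInstance _ fun s => ?_
  rw [SModEq.zero, smul_eq_mul, Ideal.mul_top]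
  induction s generalizing r with
  | zero => simp
  | succ s ih =>
    have hr : r - MvPowerSeries.C (MvPowerSeries.constantCoeff r) ∈ maximalIdeal (MvPowerSeries (Fin n) K) := by
      rw [CAlg6.mem_maximalIdeal_iff]; simp
    rw [CAlg6.maximalIdeal_eq_span_X, Ideal.mem_span_range_iff_exists_fun] at hr
    obtain ⟨c, hc⟩ := hr
    rw [show r = MvPowerSeries.C (MvPowerSeries.constantCoeff r) + ∑ i, c i * MvPowerSeries.X i by
      rw [hc, add_sub_cancel]]
    simp only [map_add, map_sum, map_mul, hC, add_sub_add_left_eq_sub, ← hX, ← Finset.sum_sub_distrib, ← sub_mul]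
    refine sum_mem fun i _ => ?_
    rw [pow_succ]
    exact Ideal.mul_mem_mul (ih (c i)) (hmem i)

theorem isLocalization_quotient {C : Type u} [CommRing C] (I P : Ideal C) [P.IsPrime]
    [(P.map (Ideal.Quotient.mk I)).IsPrime] (hIP : I ≤ P) (hI : ∀ x ∈ I, ∃ s ∉ P, s * x = 0) :
    IsLocalization.AtPrime (Localization.AtPrime (P.map (Ideal.Quotient.mk I))) P := by
  let L := Localization.AtPrime (P.map (Ideal.Quotient.mk I))
  have hc : ∀ s : C, Ideal.Quotient.mk I s ∈ P.map (Ideal.Quotient.mk I) ↔ s ∈ P := fun s => by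
    rw [← Ideal.mem_comap, Ideal.comap_map_quotientMk, sup_eq_right.2 hIP]
  refine
    { map_units := fun s => ?_
      surj := fun z => ?_
      exists_of_eq := fun {x y} h => ?_ }
  · rw [IsScalarTower.algebraMap_apply C (C ⧸ I) L]
    exact IsLocalization.map_units L (⟨Ideal.Quotient.mk I s, fun h => s.2 ((hc _).1 h)⟩ :
      (P.map (Ideal.Quotient.mk I)).primeCompl)
  · obtain ⟨⟨a, s⟩, h⟩ := IsLocalization.surj (P.map (Ideal.Quotient.mk I)).primeCompl z
    obtain ⟨a, rfl⟩ := Ideal.Quotient.mk_surjective a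
    obtain ⟨b, hb⟩ := Ideal.Quotient.mk_surjective (s : C ⧸ I)
    refine ⟨(a, ⟨b, fun hbP => s.2 (hb ▸ (hc b).2 hbP)⟩), ?_⟩
    rw [IsScalarTower.algebraMap_apply C (C ⧸ I) L, IsScalarTower.algebraMap_apply C (C ⧸ I) L a,
      Ideal.Quotient.algebraMap_eq, hb]
    exact h
  · rw [IsScalarTower.algebraMap_apply C (C ⧸ I) L, IsScalarTower.algebraMap_apply C (C ⧸ I) L y] at h
    obtain ⟨⟨s, hs⟩, hs'⟩ := (IsLocalization.eq_iff_exists (P.map (Ideal.Quotient.mk I)).primeCompl L).1 h
    obtain ⟨b, rfl⟩ := Ideal.Quotient.mk_surjective s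
    change Ideal.Quotient.mk I b * Ideal.Quotient.mk I x = Ideal.Quotient.mk I b * Ideal.Quotient.mk I y at hs'
    rw [← map_mul, ← map_mul, Ideal.Quotient.eq] at hs'
    obtain ⟨t, ht, ht'⟩ := hI _ hs'
    refine ⟨⟨t * b, ‹P.IsPrime›.mul_notMem ht fun hbP => hs ((hc b).2 hbP)⟩, ?_⟩
    show t * b * x = t * b * y
    rw [← sub_eq_zero, ← ht']
    ring

theorem exists_kill_map {A C : Type u} [CommRing A] [CommRing C] [Algebra A C] (J p : Ideal A)
    (P : Ideal C) [P.IsPrime] (hP : P.comap (algebraMap A C) = p) (hJ : ∀ x ∈ J, ∃ s ∉ p, s * x = 0) :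
    ∀ x ∈ J.map (algebraMap A C), ∃ s ∉ P, s * x = 0 := by
  intro x hx
  rw [Ideal.map] at hx
  induction hx using Submodule.span_induction with
  | mem x hx =>
    obtain ⟨a, ha, rfl⟩ := hx
    obtain ⟨s, hs, hsa⟩ := hJ a ha
    exact ⟨algebraMap A C s, fun h => hs (hP ▸ h), by rw [← map_mul, hsa, map_zero]⟩
  | zero => exact ⟨1, fun h => ‹P.IsPrime›.ne_top ((Ideal.eq_top_iff_one _).2 h), mul_zero _⟩
  | add a b _ _ ha hb =>
    obtain ⟨s, hs, hsa⟩ := ha
    obtain ⟨t, ht, htb⟩ := hb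
    exact ⟨s * t, ‹P.IsPrime›.mul_notMem hs ht, by linear_combination t * hsa + s * htb⟩
  | smul c a _ ha =>
    obtain ⟨s, hs, hsa⟩ := ha
    exact ⟨s, hs, by rw [smul_eq_mul]; linear_combination c * hsa⟩

theorem regular_of_etale_base (k k' : Type u) [Field k] [Field k'] [Algebra k k'] (n : ℕ) (Y : Type u) [CommRing Y]
    [Algebra k Y] [Algebra (MvPowerSeries (Fin n) k) Y] [IsScalarTower k (MvPowerSeries (Fin n) k) Y]
    [Module.Finite (MvPowerSeries (Fin n) k) Y] (pY : Ideal Y) [pY.IsPrime]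
    [Algebra.IsEtaleAt (MvPowerSeries (Fin n) k) pY]
    (Q : Ideal (MvPowerSeries (Fin n) k' ⊗[MvPowerSeries (Fin n) k] Y)) [Q.IsPrime]
    (hQ : Q.comap (Algebra.TensorProduct.includeRight.toRingHom :
      Y →+* MvPowerSeries (Fin n) k' ⊗[MvPowerSeries (Fin n) k] Y) = pY) :
    IsRegularLocalRing (Localization.AtPrime Q) := by
  let R := MvPowerSeries (Fin n) k
  let R' := MvPowerSeries (Fin n) k'
  haveI : IsNoetherianRing R := CAlg6.isRegularLocalRing_mvPowerSeries.toIsNoetherian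
  haveI : IsRegularLocalRing R' := CAlg6.isRegularLocalRing_mvPowerSeries
  haveI := CAlg1.isRegularRing_of_isRegularLocalRing R'
  haveI : Algebra.FinitePresentation R Y := Algebra.FinitePresentation.of_finiteType.mp inferInstance
  obtain ⟨f, hf, het⟩ := Algebra.exists_etale_of_isEtaleAt (R := R) pY
  let g : R' ⊗[R] Y := (1 : R') ⊗ₜ[R] f
  haveI : Algebra.Etale R' (R' ⊗[R] Localization.Away f) := inferInstance
  haveI : Algebra.Etale R' (Localization.Away g) :=
    Algebra.Etale.of_equiv (IsLocalization.Away.tensorProductEquivTMulRight R R' f (Localization.Away f))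
  haveI := EGA4H10.isRegularRing_of_etale (X := R') (Y := Localization.Away g)
  refine EGA4H10.regular_atPrime_of_isLocalization (Submonoid.powers g) (Localization.Away g) Q
    (Set.disjoint_left.2 ?_)
  rintro _ ⟨i, rfl⟩ hi
  have : g ∈ Q := ‹Q.IsPrime›.mem_of_pow_mem i hi
  exact hf (hQ ▸ this : f ∈ pY)

variable (k A k' : Type u) [Field k] [CommRing A] [IsLocalRing A] [IsNoetherianRing A] [Algebra k A]
  [IsAdicComplete (maximalIdeal A) A] [Module.Finite k (ResidueField A)] [Field k'] [Algebra k k']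

set_option maxHeartbeats 1000000 in
theorem regular_of_etale_quotient (p : Ideal A) [p.IsPrime] (J : Ideal A) (hJp : J ≤ p)
    (hJ : ∀ x ∈ J, ∃ s ∉ p, s * x = 0) (n : ℕ) [IsLocalRing (A ⧸ J)]
    [Algebra (MvPowerSeries (Fin n) k) (A ⧸ J)] [IsScalarTower k (MvPowerSeries (Fin n) k) (A ⧸ J)]
    [IsLocalHom (algebraMap (MvPowerSeries (Fin n) k) (A ⧸ J))] [Module.Finite (MvPowerSeries (Fin n) k) (A ⧸ J)]
    [(p.map (Ideal.Quotient.mk J)).IsPrime]
    [Algebra.IsEtaleAt (MvPowerSeries (Fin n) k) (p.map (Ideal.Quotient.mk J))]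
    (p' : Ideal (Cpl k A k')) [p'.IsPrime] (hp' : p'.comap (algebraMap A (Cpl k A k')) = p) :
    IsRegularLocalRing (Localization.AtPrime p') := by
  classical
  let R := MvPowerSeries (Fin n) k
  let R' := MvPowerSeries (Fin n) k'
  let Ab := A ⧸ J
  let C := Cpl k A k'
  let JC := J.map (algebraMap A C)
  let Cb := C ⧸ JC
  haveI hC : IsNoetherianRing C := (Semiloc14.main (k := k) (A := A) (k' := k')).1
  -- completeness of `C / J C`
  let KC : Ideal Cb := (cidl k A k').map (algebraMap C Cb)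
  haveI : IsAdicComplete (cidl k A k') Cb := AdicC27.isAdicComplete_of_finite Cb
  haveI : IsAdicComplete KC Cb := (IsAdicComplete.map_algebraMap_iff _ _).mpr ‹_›
  -- the base change
  let Y := R' ⊗[R] Ab
  haveI : IsNoetherianRing R' := CAlg6.isRegularLocalRing_mvPowerSeries.toIsNoetherian
  haveI : IsAdicComplete (maximalIdeal R') R' := CAlg6.isAdicComplete_maximalIdeal
  haveI : IsNoetherianRing Y := IsNoetherianRing.of_finite R' Y
  let J' : Ideal Y := (maximalIdeal R').map (algebraMap R' Y)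
  haveI : IsAdicComplete J' Y := SGA3a.isAdicComplete_map_of_finite Y
  let inR : Ab →+* Y := (Algebra.TensorProduct.includeRight : Ab →ₐ[R] Y).toRingHom
  let K : Ideal Y := (maximalIdeal Ab).map inR
  have hXAb : ∀ i, algebraMap R Ab (MvPowerSeries.X i) ∈ maximalIdeal Ab := fun i =>
    map_nonunit (algebraMap R Ab) _ (CAlg6.mem_maximalIdeal_iff.2 (MvPowerSeries.constantCoeff_X i))
  have hXY : ∀ i, (MvPowerSeries.X i : R') ⊗ₜ[R] (1 : Ab) = inR (algebraMap R Ab (MvPowerSeries.X i)) := fun i => by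
    show _ = (1 : R') ⊗ₜ[R] algebraMap R Ab (MvPowerSeries.X i)
    rw [Algebra.algebraMap_eq_smul_one, ← TensorProduct.smul_tmul, ← Algebra.algebraMap_eq_smul_one]
    congr 1
    show _ = MvPowerSeries.map (algebraMap k k') (MvPowerSeries.X i)
    rw [MvPowerSeries.map_X]
  have hJ'K : J' ≤ K := by
    show (maximalIdeal R').map (algebraMap R' Y) ≤ K
    rw [CAlg6.maximalIdeal_eq_span_X, Ideal.map_span, Ideal.span_le]
    rintro _ ⟨_, ⟨i, rfl⟩, rfl⟩
    show (MvPowerSeries.X i : R') ⊗ₜ[R] (1 : Ab) ∈ K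
    rw [hXY]
    exact Ideal.mem_map_of_mem _ (hXAb i)
  obtain ⟨c, hc⟩ : ∃ c, K ^ c ≤ J' := by
    have h1 : IsArtinianRing (Ab ⧸ (maximalIdeal R).map (algebraMap R Ab)) := by
      haveI : Module.Finite (R ⧸ maximalIdeal R) (Ab ⧸ (maximalIdeal R).map (algebraMap R Ab)) :=
        Module.Finite.of_restrictScalars_finite R _ _
      letI : Field (R ⧸ maximalIdeal R) := Ideal.Quotient.field _
      exact IsArtinianRing.of_finite (R ⧸ maximalIdeal R) _
    obtain ⟨c, hc⟩ := IsLocalRing.exists_maximalIdeal_pow_le_of_isArtinianRing_quotient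
      ((maximalIdeal R).map (algebraMap R Ab))
    refine ⟨c, ?_⟩
    rw [← Ideal.map_pow]
    refine (Ideal.map_mono hc).trans ?_
    rw [CAlg6.maximalIdeal_eq_span_X, Ideal.map_map, Ideal.map_span, Ideal.span_le]
    rintro _ ⟨_, ⟨i, rfl⟩, rfl⟩
    show inR (algebraMap R Ab (MvPowerSeries.X i)) ∈ J'
    rw [← hXY]
    exact Ideal.mem_map_of_mem (algebraMap R' Y) (CAlg6.mem_maximalIdeal_iff.2 (MvPowerSeries.constantCoeff_X i))
  haveI : IsAdicComplete (K ^ (c + 1)) Y :=
    CAlg1.isAdicComplete_of_le ((Ideal.pow_le_pow_right c.le_succ).trans hc) (IsNoetherian.noetherian _)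
  haveI : IsAdicComplete K Y := Frg27.isAdicComplete_of_pow (N := c)
  -- `θ`
  let fA : A →+* Y := inR.comp (Ideal.Quotient.mk J)
  let fk : k' →+* Y := (algebraMap R' Y).comp MvPowerSeries.C
  have hk : ∀ c : k, fA (algebraMap k A c) = fk (algebraMap k k' c) := fun c => by
    show inR (algebraMap k Ab c) = (MvPowerSeries.C (algebraMap k k' c) : R') ⊗ₜ[R] (1 : Ab)
    rw [IsScalarTower.algebraMap_apply k R Ab, show inR (algebraMap R Ab (algebraMap k R c)) =
      (1 : R') ⊗ₜ[R] algebraMap R Ab (algebraMap k R c) from rfl, Algebra.algebraMap_eq_smul_one (A := Ab),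
      ← TensorProduct.smul_tmul, ← Algebra.algebraMap_eq_smul_one]
    congr 1
    show MvPowerSeries.map (algebraMap k k') (MvPowerSeries.C c) = _
    rw [MvPowerSeries.map_C]
  letI : Algebra k Y := (fA.comp (algebraMap k A)).toAlgebra
  let T0 : A ⊗[k] k' →+* Y := (Algebra.TensorProduct.lift ({ fA with commutes' := fun c => rfl } : A →ₐ[k] Y)
    ({ fk with commutes' := fun c => (hk c).symm } : k' →ₐ[k] Y) fun _ _ => Commute.all _ _).toRingHom
  have hT0 : ideal k A k' ≤ K.comap T0 := by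
    refine Ideal.map_le_iff_le_comap.2 fun a ha => ?_
    show T0 (a ⊗ₜ 1) ∈ K
    have : T0 (a ⊗ₜ 1) = fA a := by
      show (Algebra.TensorProduct.lift _ _ _) (a ⊗ₜ[k] (1 : k')) = _
      rw [Algebra.TensorProduct.lift_tmul, map_one, mul_one]
      rfl
    rw [this]
    haveI : IsLocalHom (Ideal.Quotient.mk J) := .of_surjective _ Ideal.Quotient.mk_surjective
    exact Ideal.mem_map_of_mem _ (map_nonunit (Ideal.Quotient.mk J) a ha)
  obtain ⟨θ, hθ, hθK⟩ := exists_hom k A k' K T0 hT0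
  have hθA : ∀ a, θ (algebraMap A C a) = fA a := fun a => by
    show θ (algebraMap (A ⊗[k] k') C (a ⊗ₜ 1)) = _
    rw [← RingHom.comp_apply, hθ]
    show (Algebra.TensorProduct.lift _ _ _) (a ⊗ₜ[k] (1 : k')) = _
    rw [Algebra.TensorProduct.lift_tmul, map_one, mul_one]
    rfl
  have hθk : ∀ x : k', θ (algebraMap (A ⊗[k] k') C (1 ⊗ₜ x)) = fk x := fun x => by
    rw [← RingHom.comp_apply, hθ]
    show (Algebra.TensorProduct.lift _ _ _) ((1 : A) ⊗ₜ[k] x) = _
    rw [Algebra.TensorProduct.lift_tmul, map_one, one_mul]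
    rfl
  have hθJ : ∀ x ∈ JC, θ x = 0 := by
    intro x hx
    have : JC ≤ RingHom.ker θ := Ideal.map_le_iff_le_comap.2 fun a ha => by
      rw [Ideal.mem_comap, RingHom.mem_ker, hθA]
      show inR (Ideal.Quotient.mk J a) = 0
      rw [Ideal.Quotient.eq_zero_iff_mem.2 ha, map_zero]
    exact this hx
  let θb : Cb →+* Y := Ideal.Quotient.lift JC θ hθJ
  -- `ψ`
  let iA : Ab →+* Cb := Ideal.quotientMap JC (algebraMap A C) Ideal.le_comap_map
  have hiA : ∀ a, iA (Ideal.Quotient.mk J a) = Ideal.Quotient.mk JC (algebraMap A C a) := fun a => Ideal.quotientMap_mk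
  have hiAm : ∀ z ∈ maximalIdeal Ab, iA z ∈ KC := by
    intro z hz
    obtain ⟨a, rfl⟩ := Ideal.Quotient.mk_surjective z
    rw [hiA]
    refine Ideal.mem_map_of_mem _ (Ideal.mem_map_of_mem _ ?_)
    intro ha
    exact hz (ha.map (Ideal.Quotient.mk J))
  let incl : k' →+* Cb := ((Ideal.Quotient.mk JC).comp (algebraMap (A ⊗[k] k') C)).comp
    Algebra.TensorProduct.includeRight.toRingHom
  obtain ⟨φ, hφC, hφX⟩ := LA18.exists_powerSeries_hom KC incl
    (fun i => iA (algebraMap R Ab (MvPowerSeries.X i))) (fun i => hiAm _ (hXAb i))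
  letI : Algebra R Cb := (iA.comp (algebraMap R Ab)).toAlgebra
  have hφR : φ.comp (algebraMap R R') = algebraMap R Cb := by
    refine ps_hom_ext KC _ _ (fun i => ?_) (fun i => ?_) (fun c => ?_)
    · show φ (MvPowerSeries.map (algebraMap k k') (MvPowerSeries.X i)) ∈ KC
      rw [MvPowerSeries.map_X, hφX]; exact hiAm _ (hXAb i)
    · show φ (MvPowerSeries.map (algebraMap k k') (MvPowerSeries.X i)) = _
      rw [MvPowerSeries.map_X, hφX]; rfl
    · show φ (MvPowerSeries.map (algebraMap k k') (MvPowerSeries.C c)) = iA (algebraMap R Ab (algebraMap k R c))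
      rw [MvPowerSeries.map_C, hφC, ← IsScalarTower.algebraMap_apply k R Ab,
        show algebraMap k Ab c = Ideal.Quotient.mk J (algebraMap k A c) from rfl, hiA]
      show Ideal.Quotient.mk JC (algebraMap (A ⊗[k] k') C (1 ⊗ₜ algebraMap k k' c)) = _
      refine congrArg (Ideal.Quotient.mk JC) (congrArg (algebraMap (A ⊗[k] k') C) ?_)
      show (1 : A) ⊗ₜ[k] algebraMap k k' c = algebraMap k A c ⊗ₜ[k] (1 : k')
      rw [Algebra.algebraMap_eq_smul_one, Algebra.algebraMap_eq_smul_one, TensorProduct.smul_tmul]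
  let ψ : Y →+* Cb := (Algebra.TensorProduct.lift
    ({ φ with commutes' := fun r => RingHom.congr_fun hφR r } : R' →ₐ[R] Cb)
    ({ iA with commutes' := fun r => rfl } : Ab →ₐ[R] Cb) fun _ _ => Commute.all _ _).toRingHom
  have hψ : ∀ (x : R') (z : Ab), ψ (x ⊗ₜ[R] z) = φ x * iA z := fun x z => Algebra.TensorProduct.lift_tmul _ _ _ x z
  have hθφ : θb.comp φ = algebraMap R' Y := by
    refine ps_hom_ext K _ _ (fun i => ?_) (fun i => ?_) (fun x => ?_)
    · show θb (φ (MvPowerSeries.X i)) ∈ K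
      rw [hφX]
      obtain ⟨a, ha⟩ := Ideal.Quotient.mk_surjective (algebraMap R Ab (MvPowerSeries.X i))
      rw [← ha, hiA]
      show θ (algebraMap A C a) ∈ K
      rw [hθA]
      show inR (Ideal.Quotient.mk J a) ∈ K
      rw [ha]
      exact Ideal.mem_map_of_mem _ (hXAb i)
    · show θb (φ (MvPowerSeries.X i)) = (MvPowerSeries.X i : R') ⊗ₜ[R] (1 : Ab)
      rw [hφX, hXY]
      obtain ⟨a, ha⟩ := Ideal.Quotient.mk_surjective (algebraMap R Ab (MvPowerSeries.X i))
      rw [← ha, hiA]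
      show θ (algebraMap A C a) = _
      rw [hθA]
      rfl
    · show θb (φ (MvPowerSeries.C x)) = _
      rw [hφC]
      exact hθk x
  have hθψ : ∀ y, θb (ψ y) = y := by
    intro y
    induction y using TensorProduct.induction_on with
    | zero => simp
    | add a b ha hb => rw [map_add, map_add, ha, hb]
    | tmul x z =>
      obtain ⟨a, rfl⟩ := Ideal.Quotient.mk_surjective z
      rw [hψ, map_mul, show θb (φ x) = algebraMap R' Y x from RingHom.congr_fun hθφ x, hiA]
      show algebraMap R' Y x * θ (algebraMap A C a) = _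
      rw [hθA]
      show (x ⊗ₜ[R] (1 : Ab)) * ((1 : R') ⊗ₜ[R] Ideal.Quotient.mk J a) = _
      rw [Algebra.TensorProduct.tmul_mul_tmul, mul_one, one_mul]
  have hψK : K ≤ KC.comap ψ := by
    refine Ideal.map_le_iff_le_comap.2 fun z hz => ?_
    show ψ ((1 : R') ⊗ₜ[R] z) ∈ KC
    rw [hψ, map_one, one_mul]
    exact hiAm z hz
  have hψθ : ψ.comp θ = Ideal.Quotient.mk JC := by
    refine hom_ext k A k' KC _ _ (fun x hx => hψK (hθK hx)) (fun x hx => Ideal.mem_map_of_mem _ hx) ?_
    refine RingHom.ext fun t => ?_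
    induction t using TensorProduct.induction_on with
    | zero => simp
    | add a b ha hb => rw [map_add, map_add, ha, hb]
    | tmul a x =>
      have hax : algebraMap (A ⊗[k] k') C (a ⊗ₜ x) =
          algebraMap A C a * algebraMap (A ⊗[k] k') C (1 ⊗ₜ x) := by
        show _ = algebraMap (A ⊗[k] k') C (a ⊗ₜ 1) * _
        rw [← map_mul, Algebra.TensorProduct.tmul_mul_tmul, mul_one, one_mul]
      show ψ (θ (algebraMap (A ⊗[k] k') C (a ⊗ₜ x))) = Ideal.Quotient.mk JC (algebraMap (A ⊗[k] k') C (a ⊗ₜ x))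
      rw [hax, map_mul θ, map_mul ψ, map_mul (Ideal.Quotient.mk JC), hθA, hθk]
      congr 1
      · show ψ ((1 : R') ⊗ₜ[R] Ideal.Quotient.mk J a) = _
        rw [hψ, map_one, one_mul, hiA]
      · show ψ ((MvPowerSeries.C x : R') ⊗ₜ[R] (1 : Ab)) = _
        rw [hψ, map_one, mul_one, hφC]
        rfl
  let e : Y ≃+* Cb := RingEquiv.ofRingHom ψ θb
    (Ideal.Quotient.ringHom_ext (RingHom.ext fun x => by
      show ψ (θ x) = Ideal.Quotient.mk JC x
      exact RingHom.congr_fun hψθ x))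
    (RingHom.ext hθψ)
  -- the prime
  have hJCp : JC ≤ p' := Ideal.map_le_iff_le_comap.2 (hp'.symm ▸ hJp)
  haveI hpb : (p'.map (Ideal.Quotient.mk JC)).IsPrime :=
    Ideal.map_isPrime_of_surjective Ideal.Quotient.mk_surjective (by rwa [Ideal.mk_ker])
  haveI := isLocalization_quotient JC p' hJCp (exists_kill_map J p p' hp' hJ)
  let Q : Ideal Y := (p'.map (Ideal.Quotient.mk JC)).comap e.toRingHom
  haveI : Q.IsPrime := Ideal.IsPrime.comap _
  have hQ : Q.comap inR = p.map (Ideal.Quotient.mk J) := by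
    ext z
    obtain ⟨a, rfl⟩ := Ideal.Quotient.mk_surjective z
    show ψ ((1 : R') ⊗ₜ[R] Ideal.Quotient.mk J a) ∈ p'.map (Ideal.Quotient.mk JC) ↔ _
    rw [hψ, map_one, one_mul, hiA, ← Ideal.mem_comap, Ideal.comap_map_quotientMk, sup_eq_right.2 hJCp,
      ← Ideal.mem_comap, hp', ← Ideal.mem_comap (f := Ideal.Quotient.mk J), Ideal.comap_map_quotientMk,
      sup_eq_right.2 hJp]
  haveI := regular_of_etale_base k k' n Ab (p.map (Ideal.Quotient.mk J)) Q hQ
  have hmap : (p'.map (Ideal.Quotient.mk JC)).primeCompl = Q.primeCompl.map e.toMonoidHom := by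
    ext z
    simp only [Ideal.primeCompl, Submonoid.mem_map]
    constructor
    · intro hz
      exact ⟨e.symm z, fun h => hz (by simpa [Q] using h), e.apply_symm_apply z⟩
    · rintro ⟨y, hy, rfl⟩
      exact hy
  let eL : Localization.AtPrime Q ≃+* Localization.AtPrime (p'.map (Ideal.Quotient.mk JC)) :=
    IsLocalization.ringEquivOfRingEquiv (Localization.AtPrime Q) _ e hmap.symm
  haveI : IsRegularLocalRing (Localization.AtPrime (p'.map (Ideal.Quotient.mk JC))) :=
    IsRegularLocalRing.of_ringEquiv (R := Localization.AtPrime Q) eL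
  exact IsRegularLocalRing.of_ringEquiv
    (IsLocalization.algEquiv p'.primeCompl (Localization.AtPrime (p'.map (Ideal.Quotient.mk JC)))
      (Localization.AtPrime p')).toRingEquiv

end Groth.Agent.BC14
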