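import Mathlib
import Groth.Agent.BC14.Descent
import Groth.Agent.BC14.Etale
import Groth.Agent.EGA4H10.Equidim
import Groth.Agent.EGA4H10.CompleteJ2

/-!
The local criterion at a prime for completed differentials (row S3851).
-/

set_option autoImplicit false
set_option linter.style.haveILetI false

noncomputable section

universe u

open TensorProduct IsLocalRing

namespace Groth.Agent.BC14

variable (k A k' : Type u) [Field k] [CommRing A] [IsLocalRing A] [IsNoetherianRing A] [Algebra k A]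
  [IsAdicComplete (maximalIdeal A) A] [Module.Finite k (ResidueField A)] [Field k'] [Algebra k k']

theorem exists_prime_over (p : Ideal A) [p.IsPrime] :
    ∃ p' : Ideal (Cpl k A k'), p'.IsPrime ∧ p'.comap (algebraMap A (Cpl k A k')) = p := by
  obtain ⟨Φ, -, -, -⟩ := Semiloc14.exists_level k A k' (maximalIdeal A) (IsNoetherian.noetherian _) 1
  haveI : Nontrivial (A ⧸ maximalIdeal A ^ 1) := by
    rw [pow_one]; exact Ideal.Quotient.nontrivial_iff.2 (maximalIdeal.isMaximal A).ne_top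
  haveI : Nontrivial ((A ⧸ maximalIdeal A ^ 1) ⊗[k] k') :=
    (Algebra.TensorProduct.includeLeft_injective (S := k) (A := A ⧸ maximalIdeal A ^ 1)
      (algebraMap k k').injective).nontrivial
  haveI : Nontrivial (Cpl k A k') := Φ.toRingHom.domain_nontrivial
  obtain ⟨M₀, hM₀⟩ := Ideal.exists_maximal (Cpl k A k')
  obtain ⟨-, -, -, hloc⟩ := Semiloc14.main (k := k) (A := A) (k' := k')
  obtain ⟨-, hff, -, -⟩ := hloc ⟨M₀, hM₀⟩
  obtain ⟨P, hP⟩ := PrimeSpectrum.comap_surjective_of_faithfullyFlat (A := A)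
    (B := Localization.AtPrime M₀) ⟨p, ‹_›⟩
  refine ⟨P.asIdeal.comap (algebraMap (Cpl k A k') (Localization.AtPrime M₀)), Ideal.IsPrime.comap _, ?_⟩
  rw [Ideal.comap_comap, ← IsScalarTower.algebraMap_eq]
  exact congrArg PrimeSpectrum.asIdeal hP

omit [IsAdicComplete (maximalIdeal A) A] [Module.Finite k (ResidueField A)] [Algebra k A] in
theorem ker_localization (p : Ideal A) [p.IsPrime] :
    RingHom.ker (algebraMap A (Localization.AtPrime p)) ≤ p ∧
      ∀ x ∈ RingHom.ker (algebraMap A (Localization.AtPrime p)), ∃ s ∉ p, s * x = 0 := by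
  have h : ∀ x ∈ RingHom.ker (algebraMap A (Localization.AtPrime p)), ∃ s ∉ p, s * x = 0 := fun x hx => by
    obtain ⟨⟨s, hs⟩, hsx⟩ := (IsLocalization.map_eq_zero_iff p.primeCompl (Localization.AtPrime p) x).1 hx
    exact ⟨s, hs, hsx⟩
  refine ⟨fun x hx => ?_, h⟩
  obtain ⟨s, hs, hsx⟩ := h x hx
  exact (‹p.IsPrime›.mem_or_mem (hsx ▸ zero_mem p : s * x ∈ p)).resolve_left hs

omit [IsAdicComplete (maximalIdeal A) A] [Module.Finite k (ResidueField A)] [Algebra k A] in
theorem dim_quotient_ker (p : Ideal A) [p.IsPrime] (n : ℕ)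
    (hn₁ : ∀ q ∈ minimalPrimes A, q ≤ p → ringKrullDim (A ⧸ q) ≤ n)
    (hn₂ : ∃ q ∈ minimalPrimes A, q ≤ p ∧ ringKrullDim (A ⧸ q) = n)
    (J : Ideal A) (hJ : J = RingHom.ker (algebraMap A (Localization.AtPrime p))) :
    ringKrullDim (A ⧸ J) = n ∧ ∃ q ∈ minimalPrimes (A ⧸ J), q ≤ p.map (Ideal.Quotient.mk J) ∧
      ringKrullDim ((A ⧸ J) ⧸ q) = n := by
  classical
  obtain ⟨hJp, hkill⟩ := ker_localization A p
  rw [← hJ] at hJp hkill
  have hrp : ∀ r ∈ J.minimalPrimes, r ≤ p := by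
    intro r hr s hs
    by_contra hsp
    obtain ⟨y, hy, hxy⟩ := Ideal.exists_mul_mem_of_mem_minimalPrimes hr hs
    obtain ⟨t, ht, htz⟩ := hkill _ hxy
    refine hy ?_
    rw [hJ, RingHom.mem_ker, IsLocalization.map_eq_zero_iff p.primeCompl (Localization.AtPrime p)]
    refine ⟨⟨t * s, ‹p.IsPrime›.mul_notMem ht hsp⟩, ?_⟩
    show t * s * y = 0
    rw [mul_assoc]; exact htz
  obtain ⟨q, hq, hqp, hqd⟩ := hn₂
  haveI := hq.1.1
  have hJq : J ≤ q := fun x hx => by
    obtain ⟨s, hs, hsx⟩ := hkill x hx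
    exact (‹q.IsPrime›.mem_or_mem (hsx ▸ zero_mem q : s * x ∈ q)).resolve_left fun h => hs (hqp h)
  have hqmap : (q.map (Ideal.Quotient.mk J)).comap (Ideal.Quotient.mk J) = q := by
    rw [Ideal.comap_map_quotientMk, sup_eq_right.2 hJq]
  have hqd' : ringKrullDim ((A ⧸ J) ⧸ q.map (Ideal.Quotient.mk J)) = n :=
    (ringKrullDim_eq_of_ringEquiv (DoubleQuot.quotQuotEquivQuotOfLE hJq)).trans hqd
  refine ⟨le_antisymm ?_ (hqd'.ge.trans (ringKrullDim_quotient_le _)), q.map (Ideal.Quotient.mk J), ?_,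
    Ideal.map_mono hqp, hqd'⟩
  · haveI : Nontrivial (A ⧸ J) := Ideal.Quotient.nontrivial_iff.2 fun h => ‹p.IsPrime›.ne_top (top_le_iff.1 (h ▸ hJp))
    haveI : IsLocalRing (A ⧸ J) := .of_surjective' _ Ideal.Quotient.mk_surjective
    obtain ⟨r, hr, hrd⟩ := EGA4H10.exists_minimal_dim_eq (A ⧸ J)
    haveI := hr.1.1
    rw [← hrd]
    have hr' : r.comap (Ideal.Quotient.mk J) ∈ J.minimalPrimes := by
      rw [Ideal.minimalPrimes_eq_comap]
      exact ⟨r, hr, rfl⟩
    haveI := hr'.1.1
    obtain ⟨q₀, hq₀, hq₀r⟩ := Ideal.exists_minimalPrimes_le (bot_le : (⊥ : Ideal A) ≤ r.comap (Ideal.Quotient.mk J))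
    refine le_trans (le_of_eq ?_) ((ringKrullDim_le_of_surjective (Ideal.Quotient.factor hq₀r)
      (Ideal.Quotient.factor_surjective _)).trans (hn₁ q₀ hq₀ (hq₀r.trans (hrp _ hr'))))
    conv_lhs => rw [← Ideal.map_comap_of_surjective (Ideal.Quotient.mk J) Ideal.Quotient.mk_surjective r]
    exact ringKrullDim_eq_of_ringEquiv (DoubleQuot.quotQuotEquivQuotOfLE
      (fun x hx => by rw [Ideal.mem_comap, Ideal.Quotient.eq_zero_iff_mem.2 hx]; exact zero_mem r))
  · haveI : (q.map (Ideal.Quotient.mk J)).IsPrime :=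
      Ideal.map_isPrime_of_surjective Ideal.Quotient.mk_surjective (by rwa [Ideal.mk_ker])
    refine ⟨⟨inferInstance, bot_le⟩, fun r hr hle => ?_⟩
    haveI := hr.1
    have h1 : r.comap (Ideal.Quotient.mk J) ≤ q := (Ideal.comap_mono hle).trans hqmap.le
    have h2 := hq.2 ⟨Ideal.IsPrime.comap _, bot_le⟩ h1
    exact Ideal.map_le_iff_le_comap.2 h2

/-- A parametrisation of the component through `p`, étale at `p`. -/
theorem exists_etale (p : Ideal A) [p.IsPrime] (hp : p ≠ maximalIdeal A) (n : ℕ)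
    (hn₁ : ∀ q ∈ minimalPrimes A, q ≤ p → ringKrullDim (A ⧸ q) ≤ n)
    (hn₂ : ∃ q ∈ minimalPrimes A, q ≤ p ∧ ringKrullDim (A ⧸ q) = n)
    (hfree : Module.Free (Localization.AtPrime p)
          (LocalizedModule p.primeCompl (AdicCompletion (maximalIdeal A) (KaehlerDifferential k A))) ∧
        Module.finrank (Localization.AtPrime p)
          (LocalizedModule p.primeCompl (AdicCompletion (maximalIdeal A) (KaehlerDifferential k A))) = n) :
    ∃ (J : Ideal A) (_ : J ≤ p) (_ : ∀ x ∈ J, ∃ s ∉ p, s * x = 0) (_ : IsLocalRing (A ⧸ J))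
      (_ : (p.map (Ideal.Quotient.mk J)).IsPrime)
      (_ : Algebra (MvPowerSeries (Fin n) k) (A ⧸ J)) (_ : IsScalarTower k (MvPowerSeries (Fin n) k) (A ⧸ J)),
      IsLocalHom (algebraMap (MvPowerSeries (Fin n) k) (A ⧸ J)) ∧ Module.Finite (MvPowerSeries (Fin n) k) (A ⧸ J) ∧
        Algebra.IsEtaleAt (MvPowerSeries (Fin n) k) (p.map (Ideal.Quotient.mk J)) := by
  classical
  obtain ⟨hJp, hkill⟩ := ker_localization A p
  obtain ⟨hdim, hcomp⟩ := dim_quotient_ker A p n hn₁ hn₂ _ rfl
  let J := RingHom.ker (algebraMap A (Localization.AtPrime p))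
  let Ab := A ⧸ J
  haveI : Nontrivial Ab := Ideal.Quotient.nontrivial_iff.2 fun h => ‹p.IsPrime›.ne_top (top_le_iff.1 (h ▸ hJp))
  haveI hloc : IsLocalRing Ab := .of_surjective' _ Ideal.Quotient.mk_surjective
  haveI hpb : (p.map (Ideal.Quotient.mk J)).IsPrime :=
    Ideal.map_isPrime_of_surjective Ideal.Quotient.mk_surjective (by rwa [Ideal.mk_ker])
  haveI : Module.Finite A Ab := Module.Finite.of_surjective (Algebra.linearMap A Ab) Ideal.Quotient.mk_surjective
  haveI : IsAdicComplete (maximalIdeal Ab) Ab := EGA4H10.isAdicComplete_maximalIdeal_of_finite A Ab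
  haveI : IsLocalHom (algebraMap A Ab) := .of_surjective _ Ideal.Quotient.mk_surjective
  haveI : Module.Finite k (ResidueField Ab) := Module.Finite.trans (ResidueField A) (ResidueField Ab)
  have hpne : p.map (Ideal.Quotient.mk J) ≠ maximalIdeal Ab := by
    intro h
    apply hp
    have h2 := congrArg (Ideal.comap (Ideal.Quotient.mk J)) h
    rw [Ideal.comap_map_quotientMk, sup_eq_right.2 hJp] at h2
    rw [h2, ← Ideal.Quotient.algebraMap_eq]
    exact IsLocalRing.maximalIdeal_comap (algebraMap A Ab)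
  -- spanning family for `Ab`
  let ΩA := AdicCompletion (maximalIdeal A) (KaehlerDifferential k A)
  let Ωb := AdicCompletion (maximalIdeal Ab) (KaehlerDifferential k Ab)
  haveI hfinA : Module.Finite A ΩA := (OmegaHat14.span_residueField_dhat k A p).2
  haveI hfinb : Module.Finite Ab Ωb := (OmegaHat14.span_residueField_dhat k Ab (p.map (Ideal.Quotient.mk J))).2
  haveI : Module.Finite A Ωb := Module.Finite.trans Ab Ωb
  obtain ⟨Ψ, hΨ⟩ := OmegaHat14.exists_extend k A Ωb
    ((OmegaHat14.dhat k Ab).compAlgebraMap A).liftKaehlerDifferential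
  have hΨd : ∀ a, Ψ (OmegaHat14.dhat k A a) = OmegaHat14.dhat k Ab (algebraMap A Ab a) := fun a => by
    rw [OmegaHat14.dhat_apply, hΨ, Derivation.liftKaehlerDifferential_comp_D]
    rfl
  obtain ⟨hfr, hrank⟩ := hfree
  let b := Module.finBasisOfFinrankEq (Localization.AtPrime p) (LocalizedModule p.primeCompl ΩA) hrank
  have hex : ∀ i, ∃ (x : ΩA) (v : p.primeCompl), b i = LocalizedModule.mk x v := fun i =>
    LocalizedModule.induction_on (β := fun z => ∃ x v, z = LocalizedModule.mk x v) (fun x v => ⟨x, v, rfl⟩) (b i)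
  choose w v hwv using hex
  obtain ⟨N, y, hy⟩ := Module.Finite.exists_fin (R := A) (M := ΩA)
  choose a ha hay using fun l => OmegaHat14.exists_smul_mem_of_span_localized p b w v hwv b.span_eq (y l)
  have hall : ∀ x : ΩA, (∏ l, a l) • x ∈ Submodule.span A (Set.range w) := by
    intro x
    obtain ⟨c, rfl⟩ := (Submodule.mem_span_range_iff_exists_fun A).1 (hy ▸ Submodule.mem_top : x ∈ _)
    rw [Finset.smul_sum]
    refine Submodule.sum_mem _ fun l _ => ?_
    rw [smul_comm]
    refine Submodule.smul_mem _ _ ?_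
    obtain ⟨e, he⟩ := Finset.dvd_prod_of_mem a (Finset.mem_univ l)
    rw [he, mul_comm, mul_smul]
    exact Submodule.smul_mem _ _ (hay l)
  obtain ⟨N', g, hg⟩ := Submodule.fg_iff_exists_fin_generating_family.1 (IsNoetherian.noetherian (maximalIdeal Ab))
  obtain ⟨wps, -, hfinps, hwps⟩ := OmegaHat14.exists_powerSeries_finite k Ab g
    (fun i => hg ▸ Submodule.subset_span ⟨i, rfl⟩) (hg.ge.trans Ideal.le_radical)
  have hspanb : Submodule.span Ab (Set.range (OmegaHat14.dhat k Ab)) = ⊤ := by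
    letI : Algebra (MvPowerSeries (Fin N') k) Ab := wps.toRingHom.toAlgebra
    haveI : IsScalarTower k (MvPowerSeries (Fin N') k) Ab := IsScalarTower.of_algebraMap_eq fun x => (wps.commutes x).symm
    haveI : Module.Finite (MvPowerSeries (Fin N') k) Ab := hfinps
    obtain ⟨m, β, hβ⟩ := OmegaHat14.exists_span_dhat k Ab (m := N')
      (fun i => (hwps i).symm ▸ hg ▸ Submodule.subset_span ⟨i, rfl⟩)
    rw [eq_top_iff, ← hβ]
    refine Submodule.span_mono ?_
    rintro _ ⟨i | l, rfl⟩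
    · exact ⟨_, rfl⟩
    · exact ⟨_, rfl⟩
  have hsmul : ∀ (c : A) (z : Ωb), Ideal.Quotient.mk J c • z = c • z := fun c z => algebraMap_smul Ab c z
  have hab : ∀ z : Ωb, Ideal.Quotient.mk J (∏ l, a l) • z ∈ Submodule.span Ab (Set.range fun i => Ψ (w i)) := by
    intro z
    have hz : z ∈ Submodule.span Ab (Set.range (OmegaHat14.dhat k Ab)) := hspanb ▸ Submodule.mem_top
    induction hz using Submodule.span_induction with
    | mem z hz =>
      obtain ⟨z, rfl⟩ := hz
      obtain ⟨z, rfl⟩ := Ideal.Quotient.mk_surjective z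
      rw [hsmul, ← Ideal.Quotient.algebraMap_eq, ← hΨd, ← map_smul]
      have h2 := Submodule.apply_mem_span_image_of_mem_span Ψ (hall (OmegaHat14.dhat k A z))
      rw [← Set.range_comp] at h2
      exact Submodule.span_le_restrictScalars A Ab _ h2
    | zero => rw [smul_zero]; exact zero_mem _
    | add x y _ _ hx hy => rw [smul_add]; exact add_mem hx hy
    | smul c x _ hx => rw [smul_comm]; exact Submodule.smul_mem _ _ hx
  have hanot : Ideal.Quotient.mk J (∏ l, a l) ∉ p.map (Ideal.Quotient.mk J) := by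
    rw [← Ideal.mem_comap, Ideal.comap_map_quotientMk, sup_eq_right.2 hJp]
    exact fun h => by
      obtain ⟨l, -, hl⟩ := Ideal.IsPrime.prod_mem_iff.1 h
      exact ha l hl
  obtain ⟨i1, i2, hl, hf, het⟩ := OmegaHat14.exists_etale_of_span k Ab n hdim (p.map (Ideal.Quotient.mk J)) hpne hcomp
    (fun i => LocalizedModule.mk (Ψ (w i)) 1) (OmegaHat14.span_localized_of_smul_mem _ _ _ hanot hab)
  exact ⟨J, hJp, hkill, hloc, hpb, i1, i2, hl, hf, het⟩

theorem main (p : Ideal A) [p.IsPrime] (hp : p ≠ maximalIdeal A) (n : ℕ)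
    (hn₁ : ∀ q ∈ minimalPrimes A, q ≤ p → ringKrullDim (A ⧸ q) ≤ n)
    (hn₂ : ∃ q ∈ minimalPrimes A, q ≤ p ∧ ringKrullDim (A ⧸ q) = n)
    (hfree : Module.Free (Localization.AtPrime p)
          (LocalizedModule p.primeCompl (AdicCompletion (maximalIdeal A) (KaehlerDifferential k A))) ∧
        Module.finrank (Localization.AtPrime p)
          (LocalizedModule p.primeCompl (AdicCompletion (maximalIdeal A) (KaehlerDifferential k A))) = n) :
    CAlg.IsGeometricallyRegular k (Localization.AtPrime p) := by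
  obtain ⟨J, hJp, hJ, hloc, hpb, i1, i2, hl, hf, het⟩ := exists_etale k A p hp n hn₁ hn₂ hfree
  have hgr := OmegaHat14.isGeometricallyRegular_of_isEtaleAt k (A ⧸ J) (p.map (Ideal.Quotient.mk J)) (m := n)
  haveI := isLocalization_quotient J p hJp hJ
  intro l _ _ hlf
  haveI := hgr l hlf
  let e : Localization.AtPrime (p.map (Ideal.Quotient.mk J)) ≃ₐ[k] Localization.AtPrime p :=
    (IsLocalization.algEquiv p.primeCompl _ (Localization.AtPrime p)).restrictScalars k
  exact IsRegularRing.of_ringEquiv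
    (Algebra.TensorProduct.congr (AlgEquiv.refl (R := k) (A₁ := l)) e).toRingEquiv

end Groth.Agent.BC14
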